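import Cfsg.Agent.H680.GowCC
import Cfsg.Agent.H226.R2.Base
import Cfsg.Agent.H776.CY.Congr

/-!
# S4829, `p = 2`: `PSL₂(2^f)`

The generalized character `Ind (λ - 1) + 1` of `H680.GowCC` (norm two, `A = C(x)`, `x` of order three) is fixed by all
automorphisms, since all elements of order three of `SL₂(2^f)` are conjugate.
-/

set_option autoImplicit false

namespace Cfsg.Agent.H907.R2

open Cfsg Cfsg.Agent.Characters.Core Cfsg.Agent.Characters Cfsg.Agent.Characters.CCBasic
  Cfsg.Agent.Characters.CCOrbit Cfsg.Agent.Characters.CCInduce Cfsg.Agent.H636.Gow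
  Cfsg.Agent.CharactersDeep.NormalInd Cfsg.Agent.H680.GowCC Cfsg.Agent.H770.CY Cfsg.Agent.H226.R2
open scoped ComplexConjugate

universe u

section

variable {G : Type u} [Group G] [Fintype G] {A : Subgroup G}

/-- **The generalized character of a cyclic CC-subgroup.** -/
theorem exists_psi_aut (hA : IsCC A) (hcyc : IsCyclic A) {ℓ : ℕ} (hℓ : ℓ.Prime) {x : G} (hx : x ∈ A)
    (ho : orderOf x = ℓ) (hconj : ∀ k : ℕ, ¬ ℓ ∣ k → IsConj x (x ^ k)) :
    ∃ Ψ : G → ℂ, IsGeneralizedCharacter G Ψ ∧ (∀ g, ∃ q : ℚ, Ψ g = q) ∧ Ψ 1 = 0 ∧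
      (∀ y : G, (∀ z : G, z ≠ 1 → z ∈ A → ¬ IsConj z y) → Ψ y = 0) ∧
      (∀ (θ : G → ℂ) (c : ℂ), IsClassFunction G θ → (∀ a ∈ A, a ≠ 1 → θ a = c) → classInner Ψ θ = - conj c) ∧
      classInner Ψ Ψ = ℓ ∧ (∀ (b : MulAut G) (g : G), (∀ a ∈ A, g * b a * g⁻¹ ∈ A) → ∀ x : G, Ψ (b x) = Ψ x) := by
  classical
  have hfA : Fintype A := Fintype.ofFinite A
  have hfN : Fintype (Subgroup.normalizer (A : Set G)) := Fintype.ofFinite _
  have hx1 : x ≠ 1 := fun h => by rw [h, orderOf_one] at ho; exact hℓ.one_lt.ne ho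
  obtain ⟨g0, hg0⟩ := hcyc.exists_generator
  have hprim := Complex.isPrimitiveRoot_exp ℓ hℓ.ne_zero
  have hprimU := hprim.isUnit_unit hℓ.ne_zero
  set ζ : ℂˣ := (hprim.isUnit hℓ.ne_zero).unit with hζ
  have hordA : ℓ ∣ orderOf g0 := by
    rw [orderOf_eq_card_of_forall_mem_zpowers hg0, ← ho, ← Subgroup.orderOf_mk x hx]
    exact orderOf_dvd_natCard _
  have hdvd : orderOf ζ ∣ orderOf g0 := by rw [← hprimU.eq_orderOf]; exact hordA
  let lam : A →* ℂˣ := monoidHomOfForallMemZpowers hg0 hdvd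
  have hlam0 : lam g0 = ζ := monoidHomOfForallMemZpowers_apply_gen hg0 hdvd
  have hlamℓ : ∀ a, lam a ^ ℓ = 1 := by
    intro a
    obtain ⟨j, rfl⟩ := hg0 a
    show lam (g0 ^ j) ^ ℓ = 1
    rw [map_zpow, hlam0, ← zpow_natCast, ← zpow_mul, mul_comm, zpow_mul, zpow_natCast, hprimU.pow_eq_one, one_zpow]
  -- the action of the normalizer
  have hact : ∀ y : Subgroup.normalizer (A : Set G), ∃ k : ℤ, ∀ a : A, A.normalizerMonoidHom y a = a ^ k := by
    intro y
    obtain ⟨k, hk⟩ := hg0 (A.normalizerMonoidHom y g0)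
    refine ⟨k, fun a => ?_⟩
    obtain ⟨j, rfl⟩ := hg0 a
    have hk' : g0 ^ k = A.normalizerMonoidHom y g0 := hk
    show A.normalizerMonoidHom y (g0 ^ j) = (g0 ^ j) ^ k
    rw [map_zpow, ← hk', ← zpow_mul, ← zpow_mul, mul_comm]
  have hzp : ∀ (z : ℂˣ) (k m : ℤ), z ^ ℓ = 1 → (ℓ : ℤ) ∣ k - m → z ^ k = z ^ m := by
    intro z k m hz hd
    obtain ⟨c, hc⟩ := hd
    have : k = m + ℓ * c := by omega
    rw [this, zpow_add, zpow_mul, zpow_natCast, hz, one_zpow, mul_one]
  -- Galois conjugation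
  have hgal : ∀ m : ℕ, ¬ ℓ ∣ m → ∃ y : Subgroup.normalizer (A : Set G), (y : G) * x * (y : G)⁻¹ = x ^ m ∧
      ∀ a : A, lam (A.normalizerMonoidHom y a) = lam a ^ m := by
    intro m hm
    obtain ⟨y, hy⟩ := isConj_iff.1 (hconj m hm)
    have hyN : y ∈ Subgroup.normalizer (A : Set G) := hA.ti hx hx1 (by rw [hy]; exact pow_mem hx m)
    obtain ⟨k, hk⟩ := hact ⟨y, hyN⟩
    refine ⟨⟨y, hyN⟩, hy, fun a => ?_⟩
    have h1 := congrArg Subtype.val (hk ⟨x, hx⟩)
    rw [coe_nmh] at h1
    have h2 : x ^ m = x ^ k := by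
      rw [← hy]; exact h1
    have h3 : (ℓ : ℤ) ∣ k - m := by
      rw [← ho, orderOf_dvd_iff_zpow_eq_one, zpow_sub, zpow_natCast, h2, mul_inv_cancel]
    rw [hk, map_zpow, ← zpow_natCast]
    exact hzp _ _ _ (hlamℓ a) h3
  let l : A → ℂ := fun a => (lam a : ℂ)
  have hl : IsIrrCharacter A l := H595.Central.isIrr_hom lam
  have hl1 : l ≠ 1 := by
    intro h
    have h1 : (lam g0 : ℂ) = 1 := congrFun h g0
    have h2 : ζ = 1 := by rw [← hlam0]; exact Units.ext h1
    have h3 := hprimU.eq_orderOf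
    rw [h2, orderOf_one] at h3
    exact hℓ.one_lt.ne' h3
  have h1irr : IsIrrCharacter A (1 : A → ℂ) := isIrr_one
  have hη : (l - 1) 1 = 0 := by
    show (lam 1 : ℂ) - 1 = 0
    rw [map_one, Units.val_one, sub_self]
  -- the order of the normalizer
  have hcardN : Nat.card (Subgroup.normalizer (A : Set G)) = Nat.card A * (ℓ - 1) := by
    let act : MulAction ↥(Subgroup.normalizer (A : Set G)) G :=
      MulAction.compHom G ((MulAut.conj : G →* MulAut G).comp (Subgroup.normalizer (A : Set G)).subtype)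
    have hsm : ∀ (n : ↥(Subgroup.normalizer (A : Set G))) (x : G), n • x = (n : G) * x * (n : G)⁻¹ :=
      fun n x => rfl
    have hst : MulAction.stabilizer ↥(Subgroup.normalizer (A : Set G)) x = A.subgroupOf _ := by
      ext n
      rw [MulAction.mem_stabilizer_iff, hsm, Subgroup.mem_subgroupOf]
      constructor
      · intro h
        exact hA.mem_of_comm hx hx1 (mul_inv_eq_iff_eq_mul.1 h)
      · intro h
        rw [hA.comm h hx, mul_inv_cancel_right]
    have horb : MulAction.orbit ↥(Subgroup.normalizer (A : Set G)) x =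
        (fun k : ℕ => x ^ k) '' (↑(Finset.Ico 1 ℓ) : Set ℕ) := by
      ext z
      constructor
      · rintro ⟨n, rfl⟩
        obtain ⟨k, hk⟩ := hact n
        have h1 := congrArg Subtype.val (hk ⟨x, hx⟩)
        rw [coe_nmh] at h1
        have h2 : (n : G) * x * (n : G)⁻¹ ∈ Subgroup.zpowers x := ⟨k, h1.symm⟩
        obtain ⟨j, hj⟩ := (mem_powers_iff_mem_zpowers.2 h2 : _ ∈ Submonoid.powers x)
        have hj' : x ^ j = (n : G) * x * (n : G)⁻¹ := hj
        refine ⟨j % ℓ, ?_, ?_⟩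
        · rw [Finset.coe_Ico, Set.mem_Ico]
          refine ⟨?_, Nat.mod_lt _ hℓ.pos⟩
          rcases Nat.eq_zero_or_pos (j % ℓ) with h0 | h0
          · exfalso
            apply hx1
            have h3 : x ^ j = 1 := by
              rw [← ho] at h0
              exact orderOf_dvd_iff_pow_eq_one.1 (Nat.dvd_of_mod_eq_zero h0)
            rw [h3] at hj'
            exact conj_eq_one_iff.1 hj'.symm
          · exact h0
        · show x ^ (j % ℓ) = n • x
          rw [hsm, ← hj', ← ho, pow_mod_orderOf]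
      · rintro ⟨k, hk, rfl⟩
        rw [Finset.coe_Ico, Set.mem_Ico] at hk
        obtain ⟨y, hy, -⟩ := hgal k (Nat.not_dvd_of_pos_of_lt (by omega) hk.2)
        exact ⟨y, hy⟩
    have h1 := MulAction.index_stabilizer ↥(Subgroup.normalizer (A : Set G)) x
    rw [hst, horb, Set.InjOn.ncard_image, Set.ncard_coe_finset, Nat.card_Ico] at h1
    · rw [← (A.subgroupOf (Subgroup.normalizer (A : Set G))).card_mul_index, h1,
        Nat.card_congr (Subgroup.subgroupOfEquivOfLe Subgroup.le_normalizer).toEquiv]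
    · intro a ha b hb hab
      rw [Finset.coe_Ico, Set.mem_Ico] at ha hb
      exact pow_injOn_Iio_orderOf (by rw [ho]; exact ha.2) (by rw [ho]; exact hb.2) hab
  have hAne : (Nat.card A : ℂ) ≠ 0 := Nat.cast_ne_zero.2 Nat.card_pos.ne'
  have hsub : indFun A (l - 1) = indFun A l - indFun A 1 := indFun_sub l 1
  have hcl : IsCharacter G (indFun A l) := CharDeep.CliffordCorr.isCharacter_indFun A (isIrr_isCharacter hl)
  have hc1 : IsCharacter G (indFun A (1 : A → ℂ)) :=
    CharDeep.CliffordCorr.isCharacter_indFun A (isIrr_isCharacter h1irr)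
  have hmℓ : ∀ m : ℕ, m.Coprime (Nat.card G) → ¬ ℓ ∣ m := by
    intro m hm hd
    have h1 : ℓ ∣ Nat.card G := by rw [← ho]; exact orderOf_dvd_natCard x
    have h2 := Nat.dvd_gcd hd h1
    rw [hm] at h2
    exact hℓ.one_lt.ne' (Nat.dvd_one.1 h2)
  have hrl : ∀ g : G, ∃ q : ℚ, indFun A l g = q := by
    intro g
    rw [GaloisBasic.exists_rat_iff hcl g]
    intro m hm
    obtain ⟨y, -, hy⟩ := hgal m (hmℓ m hm)
    refine indFun_pow hm y (fun a => ?_) g
    show (lam (a ^ m) : ℂ) = (lam (A.normalizerMonoidHom y a) : ℂ)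
    rw [hy, map_pow]
  have hr1 : ∀ g : G, ∃ q : ℚ, indFun A (1 : A → ℂ) g = q := by
    intro g
    rw [GaloisBasic.exists_rat_iff hc1 g]
    intro m hm
    exact indFun_pow hm 1 (fun a => rfl) g
  -- the action of the automorphisms
  have haut : ∀ (b : MulAut G) (g : G), (∀ a ∈ A, g * b a * g⁻¹ ∈ A) → ∀ x : G,
      indFun A (l - 1) (b x) = indFun A (l - 1) x := by
    intro b g hb x'
    -- the automorphism `c = conj g ∘ b` maps `A` to `A`
    have hbij : ∀ a : G, a ∈ A ↔ g * b a * g⁻¹ ∈ A := by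
      have hmap : A.map (MulAut.conj g * b : MulAut G).toMonoidHom = A := by
        apply Subgroup.eq_of_le_of_card_ge
        · rintro _ ⟨a, ha, rfl⟩
          exact hb a ha
        · rw [Subgroup.card_map_of_injective (MulAut.conj g * b : MulAut G).injective]
      intro a
      refine ⟨hb a, fun h => ?_⟩
      rw [← hmap] at h
      obtain ⟨a', ha', h'⟩ := h
      have : (MulAut.conj g * b : MulAut G) a' = (MulAut.conj g * b : MulAut G) a := h'
      rwa [← (MulAut.conj g * b : MulAut G).injective this]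
    -- `λ ∘ c = λ ^ m`
    obtain ⟨j, hj⟩ := hg0 ⟨g * b g0 * g⁻¹, hb g0 g0.2⟩
    have hjc : ∀ a : A, (⟨g * b a * g⁻¹, hb a a.2⟩ : A) = a ^ j := by
      intro a
      obtain ⟨i, rfl⟩ := hg0 a
      apply Subtype.ext
      have hj' : ((g0 ^ j : A) : G) = g * b g0 * g⁻¹ := congrArg Subtype.val hj
      show g * b ((g0 ^ i : A) : G) * g⁻¹ = (((g0 ^ i) ^ j : A) : G)
      rw [← zpow_mul, mul_comm i j, zpow_mul, Subgroup.coe_zpow, Subgroup.coe_zpow, hj', map_zpow, conj_zpow]
    obtain ⟨m, hm⟩ : ∃ m : ℕ, (ℓ : ℤ) ∣ j - m := by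
      refine ⟨(j % ℓ).toNat, ?_⟩
      have h0 : 0 ≤ j % ℓ := Int.emod_nonneg _ (by exact_mod_cast hℓ.ne_zero)
      rw [Int.toNat_of_nonneg h0]
      exact Int.dvd_self_sub_emod
    have hmn : ¬ ℓ ∣ m := by
      intro hd
      have h1 : (ℓ : ℤ) ∣ j := by
        have h2 : (ℓ : ℤ) ∣ m := by exact_mod_cast hd
        have h3 := dvd_add hm h2
        rwa [sub_add_cancel] at h3
      have h4 := congrArg Subtype.val (hjc ⟨x, hx⟩)
      change g * b x * g⁻¹ = ((⟨x, hx⟩ ^ j : A) : G) at h4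
      rw [Subgroup.coe_zpow] at h4
      change g * b x * g⁻¹ = x ^ j at h4
      have h5 : x ^ j = 1 := by rwa [← orderOf_dvd_iff_zpow_eq_one, ho]
      rw [h5] at h4
      apply hx1
      have h6 : b x = 1 := conj_eq_one_iff.1 h4
      exact (map_eq_one_iff b b.injective).1 h6
    obtain ⟨y, -, hy⟩ := hgal m hmn
    have hly : ∀ a : A, lam ⟨g * b a * g⁻¹, hb a a.2⟩ = lam (A.normalizerMonoidHom y a) := by
      intro a
      rw [hjc, hy, map_zpow, ← zpow_natCast]
      exact hzp _ _ _ (hlamℓ a) hm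
    rw [Core.indFun_apply, Core.indFun_apply]
    congr 1
    -- reindex
    let E : G ≃ G := (b.toEquiv.trans (Equiv.mulRight g⁻¹))
    rw [← Equiv.sum_comp E (fun z : G => extendByZero A (l - 1) (z⁻¹ * b x' * z)),
      ← Equiv.sum_comp (Equiv.mulRight (y : G)⁻¹) (fun z : G => extendByZero A (l - 1) (z⁻¹ * x' * z))]
    refine Finset.sum_congr rfl fun z _ => ?_
    have e1 : (E z)⁻¹ * b x' * E z = g * b (z⁻¹ * x' * z) * g⁻¹ := by
      show (b z * g⁻¹)⁻¹ * b x' * (b z * g⁻¹) = _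
      rw [map_mul, map_mul, map_inv]
      group
    have e2 : (Equiv.mulRight (y : G)⁻¹ z)⁻¹ * x' * (Equiv.mulRight (y : G)⁻¹ z) =
        (y : G) * (z⁻¹ * x' * z) * (y : G)⁻¹ := by
      show (z * (y : G)⁻¹)⁻¹ * x' * (z * (y : G)⁻¹) = _
      group
    rw [e1, e2]
    generalize z⁻¹ * x' * z = k
    by_cases hk : k ∈ A
    · have hyk : (y : G) * k * (y : G)⁻¹ ∈ A := (Subgroup.mem_normalizer_iff.1 y.2 k).1 hk
      rw [ext_coe _ (hb k hk), ext_coe _ hyk]
      show (lam ⟨g * b k * g⁻¹, hb k hk⟩ : ℂ) - 1 = (lam ⟨(y : G) * k * (y : G)⁻¹, hyk⟩ : ℂ) - 1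
      have h7 := hly ⟨k, hk⟩
      have h8 : A.normalizerMonoidHom y ⟨k, hk⟩ = ⟨(y : G) * k * (y : G)⁻¹, hyk⟩ := Subtype.ext (coe_nmh _ _ _)
      rw [h8] at h7
      rw [h7]
    · have h2 : (y : G) * k * (y : G)⁻¹ ∉ A := fun h2 => hk ((Subgroup.mem_normalizer_iff.1 y.2 k).2 h2)
      have h3 : g * b k * g⁻¹ ∉ A := fun h3 => hk ((hbij k).2 h3)
      rw [ext_not _ h3, ext_not _ h2]
  refine ⟨indFun A (l - 1), ⟨_, _, hcl, hc1, hsub⟩, ?_, ?_, ?_, ?_, ?_, haut⟩
  · intro g
    obtain ⟨a, ha⟩ := hrl g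
    obtain ⟨b, hb⟩ := hr1 g
    exact ⟨a - b, by rw [hsub, Pi.sub_apply, ha, hb]; push_cast; rfl⟩
  · rw [indFun_one, hη, mul_zero]
  · intro y hy
    exact indFun_eq_zero_of_not_conj hη hy
  · intro θ c hθ hc
    rw [CharactersDeep.NormalInd.classInner_indFun A (l - 1) θ hθ]
    have h1 : classInner (l - 1) (fun h : A => θ h) = classInner (l - 1) (c • (1 : A → ℂ)) := by
      rw [classInner_def, classInner_def]
      congr 1
      refine Finset.sum_congr rfl fun a _ => ?_
      by_cases ha : a = 1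
      · subst ha
        rw [hη, zero_mul, zero_mul]
      · rw [hc a a.2 (fun h => ha (Subtype.ext h))]
        simp
    rw [h1, classInner_smul_right, classInner_sub_left, classInner_irr_ne hl h1irr hl1, classInner_irr_self h1irr,
      zero_sub, mul_neg, mul_one]
  · rw [classInner_indFun_indFun hA _ hη]
    have h1 : ∀ y : Subgroup.normalizer (A : Set G), classInner (l - 1) (cj A y (l - 1)) =
        (if cj A y l = l then 1 else 0) + 1 := by
      intro y
      have h2 : IsIrrCharacter A (cj A y l) := isIrr_cj A y hl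
      have h3 : cj A y l ≠ 1 := by
        intro h
        apply hl1
        apply cj_injective A y
        rw [h]
        rfl
      rw [cj_sub, cj_const_one, classInner_sub_right, classInner_sub_left, classInner_sub_left,
        classInner_irr_ne hl h1irr hl1, classInner_irr_self h1irr, classInner_irr_ne h1irr h2 (Ne.symm h3),
        classInner_irr hl h2]
      by_cases h4 : cj A y l = l
      · rw [if_pos h4.symm, if_pos h4]; ring
      · rw [if_neg (fun h => h4 h.symm), if_neg h4]; ring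
    rw [Finset.sum_congr rfl fun y _ => h1 y, Finset.sum_add_distrib, Finset.sum_boole, Finset.sum_const,
      Finset.card_univ, ← Nat.card_eq_fintype_card, hcardN,
      card_cj_eq hA hl hl1 1 (cj_one A l), nsmul_eq_mul, mul_one]
    have h2 : 1 ≤ ℓ := hℓ.one_lt.le
    push_cast [Nat.cast_sub h2]
    field_simp
    ring


end

/-! ### `SL₂` in characteristic two -/

section sl

open Matrix

variable {F : Type u} [Field F] [CharP F 2]

/-- `x` of trace one: a conjugating matrix from a vector -/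
theorem conj_of_vec {x : SpecialLinearGroup (Fin 2) F} (ht : x 0 0 + x 1 1 = 1) (v w s : F)
    (hs : s * s * (v * (x 1 0 * v + x 1 1 * w) + w * (x 0 0 * v + x 0 1 * w)) = 1) :
    ∃ g : SpecialLinearGroup (Fin 2) F, g * x * g⁻¹ = X3 F := by
  have h2 : (1 : F) + 1 = 0 := CharTwo.add_self_eq_zero 1
  have hd : x 0 0 * x 1 1 + x 0 1 * x 1 0 = 1 := by
    have h3 := x.det_coe
    rw [det_fin_two, CharTwo.sub_eq_add] at h3
    exact h3
  let P : SpecialLinearGroup (Fin 2) F :=
    ⟨!![s * v, s * (x 0 0 * v + x 0 1 * w); s * w, s * (x 1 0 * v + x 1 1 * w)], by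
      rw [det_fin_two_of, CharTwo.sub_eq_add]
      linear_combination hs⟩
  have key : x * P = P * X3 F := by
    apply sl_ext
    rw [sl_mul, sl_mul]
    show (x : Matrix (Fin 2) (Fin 2) F) * !![s * v, s * (x 0 0 * v + x 0 1 * w); s * w, s * (x 1 0 * v + x 1 1 * w)] =
      !![s * v, s * (x 0 0 * v + x 0 1 * w); s * w, s * (x 1 0 * v + x 1 1 * w)] * !![0, 1; 1, 1]
    ext i j
    fin_cases i <;> fin_cases j <;> simp [Matrix.mul_apply, Fin.sum_univ_two]
    · ring
    · linear_combination (s * (x 0 0 * v + x 0 1 * w)) * ht + (s * v) * hd -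
        (s * (x 0 0 * x 1 1 * v)) * h2
    · ring
    · linear_combination (s * (x 1 0 * v + x 1 1 * w)) * ht + (s * w) * hd -
        (s * (x 0 0 * x 1 1 * w)) * h2
  refine ⟨P⁻¹, ?_⟩
  rw [inv_inv, mul_assoc, key, inv_mul_cancel_left]

/-- **all elements of order three are conjugate** -/
theorem exists_conj_X3 [Finite F] {x : SpecialLinearGroup (Fin 2) F} (hx : orderOf x = 3) :
    ∃ g : SpecialLinearGroup (Fin 2) F, g * x * g⁻¹ = X3 F := by
  have h2 : (1 : F) + 1 = 0 := CharTwo.add_self_eq_zero 1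
  have hd : x 0 0 * x 1 1 + x 0 1 * x 1 0 = 1 := by
    have h3 := x.det_coe
    rw [det_fin_two, CharTwo.sub_eq_add] at h3
    exact h3
  have hx3 : x * x * x = 1 := by
    have h3 : x ^ 3 = 1 := hx ▸ pow_orderOf_eq_one x
    rw [← pow_two, ← pow_succ]
    exact h3
  have hx1 : x ≠ 1 := by
    rintro rfl
    rw [orderOf_one] at hx
    omega
  have hM : (x : Matrix (Fin 2) (Fin 2) F) * x * x = 1 := by
    rw [← sl_mul, ← sl_mul, hx3]
    rfl
  have hE : ∀ i j, ((x : Matrix (Fin 2) (Fin 2) F) * x * x) i j = (1 : Matrix (Fin 2) (Fin 2) F) i j := by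
    rw [hM]
    exact fun _ _ => rfl
  have ht : x 0 0 + x 1 1 = 1 := by
    by_contra hne
    have ht1 : x 0 0 + x 1 1 + 1 ≠ 0 := by
      intro h
      apply hne
      rw [← CharTwo.sub_eq_add] at h
      exact sub_eq_zero.1 h
    have e00 := hE 0 0
    have e01 := hE 0 1
    have e10 := hE 1 0
    have e11 := hE 1 1
    simp only [Matrix.mul_apply, Fin.sum_univ_two, Matrix.one_apply_eq, Matrix.one_apply_ne (zero_ne_one' (Fin 2)),
      Matrix.one_apply_ne (zero_ne_one' (Fin 2)).symm] at e00 e01 e10 e11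
    -- `(t + 1)² b = 0`
    have hb : x 0 1 = 0 := by
      have h3 : (x 0 0 + x 1 1 + 1) * (x 0 0 + x 1 1 + 1) * x 0 1 = 0 := by
        linear_combination e01 + (x 0 1) * hd + (x 0 0 * x 0 1 + x 1 1 * x 0 1 + x 0 1 - x 0 1 * x 0 1 * x 1 0) * h2
      rcases mul_eq_zero.1 h3 with h4 | h4
      · exact absurd (mul_self_eq_zero.1 h4) ht1
      · exact h4
    have hc : x 1 0 = 0 := by
      have h3 : (x 0 0 + x 1 1 + 1) * (x 0 0 + x 1 1 + 1) * x 1 0 = 0 := by
        linear_combination e10 + (x 1 0) * hd + (x 0 0 * x 1 0 + x 1 1 * x 1 0 + x 1 0 - x 0 1 * x 1 0 * x 1 0) * h2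
      rcases mul_eq_zero.1 h3 with h4 | h4
      · exact absurd (mul_self_eq_zero.1 h4) ht1
      · exact h4
    rw [hb, zero_mul, add_zero] at hd
    rw [hb, hc] at e00 e11
    simp only [zero_mul, mul_zero, add_zero, zero_add] at e00 e11
    -- `a³ = d³ = 1`, `a d = 1`
    have h3 : (x 0 0 + x 1 1 + 1) * (x 0 0 + 1) = 0 := by
      have h4 : x 0 0 * x 0 0 = x 1 1 := by
        have h5 : x 0 0 * x 0 0 * (x 0 0 * x 1 1) = x 1 1 := by linear_combination (x 1 1) * e00
        rwa [hd, mul_one] at h5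
      linear_combination h4 + hd + (x 0 0 + 1 + x 1 1) * h2
    rcases mul_eq_zero.1 h3 with h4 | h4
    · exact ht1 h4
    · apply hx1
      have h5 : x 0 0 = 1 := by
        rw [← CharTwo.sub_eq_add] at h4
        exact sub_eq_zero.1 h4
      rw [h5, one_mul] at hd
      apply sl_ext
      ext i j
      fin_cases i <;> fin_cases j
      · exact h5
      · exact hb
      · exact hc
      · exact hd
  have hsq : ∀ δ : F, δ ≠ 0 → ∃ s : F, s * s * δ = 1 := by
    intro δ hδ
    have := Fintype.ofFinite F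
    obtain ⟨r, hr⟩ := FiniteField.isSquare_of_char_two (F := F) (ringChar.eq F 2) δ⁻¹
    exact ⟨r, by rw [← hr, inv_mul_cancel₀ hδ]⟩
  by_cases hb : x 0 1 = 0
  · by_cases hc : x 1 0 = 0
    · refine conj_of_vec ht 1 1 1 ?_
      rw [hb, hc]
      linear_combination ht
    · obtain ⟨s, hs⟩ := hsq _ hc
      exact conj_of_vec ht 1 0 s (by linear_combination hs)
  · obtain ⟨s, hs⟩ := hsq _ hb
    exact conj_of_vec ht 0 1 s (by linear_combination hs)

/-- `SL₂(q)`, `q` even -/
theorem row2_sl [Finite F] : Row2 (SpecialLinearGroup (Fin 2) F) := by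
  have hfin : Finite (SpecialLinearGroup (Fin 2) F) := inferInstance
  have := Fintype.ofFinite (SpecialLinearGroup (Fin 2) F)
  have hc : ∀ k : ℕ, ¬ 3 ∣ k → IsConj (X3 F) (X3 F ^ k) := by
    intro k hk
    have h1 : X3 F ^ k = X3 F ^ (k % 3) := by rw [← order_X3 (F := F), pow_mod_orderOf]
    have h2 : k % 3 = 1 ∨ k % 3 = 2 := by omega
    rcases h2 with h2 | h2
    · rw [h1, h2, pow_one]
    · rw [h1, h2]; exact conj_X3
  obtain ⟨Ψ, h1, h2, h3, -, h5, h6, haut⟩ := exists_psi_aut (cc_cent (F := F)) cyc_cent Nat.prime_three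
    (Subgroup.mem_centralizer_singleton_iff.2 rfl) order_X3 hc
  have h7 : classInner Ψ 1 = -1 := by
    rw [h5 1 1 (isIrr_isClassFunction isIrr_one) (fun _ _ _ => rfl), map_one]
  have h8 : classInner (1 : SpecialLinearGroup (Fin 2) F → ℂ) Ψ = -1 := by
    rw [← classInner_conj_symm, h7, map_neg, map_one]
  have h9 : classInner (1 : SpecialLinearGroup (Fin 2) F → ℂ) 1 = 1 := classInner_irr_self isIrr_one
  refine row2_of_psi (ψ := Ψ + 1) (n := 2)
    (Brauer.isGeneralizedCharacter_add h1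
      (Brauer.isGeneralizedCharacter_of_isCharacter (isIrr_isCharacter isIrr_one))) (fun g => ?_) ?_ ⟨1, odd_one, ?_⟩
    ?_ le_rfl ?_
  · obtain ⟨q, hq⟩ := h2 g
    exact ⟨q + 1, by rw [Pi.add_apply, hq, Pi.one_apply]; push_cast; rfl⟩
  · rw [classInner_add_left, h7, h9, neg_add_cancel]
  · rw [Pi.add_apply, h3, zero_add, Pi.one_apply, Int.cast_one]
  · rw [classInner_add_left, classInner_add_right, classInner_add_right, h6, h7, h8, h9]
    push_cast
    ring
  · have htop : stab (Ψ + 1) = ⊤ := by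
      rw [eq_top_iff]
      intro b _ y
      obtain ⟨g, hg⟩ := exists_conj_X3 (x := b (X3 F)) (by
        rw [← order_X3 (F := F)]
        exact orderOf_injective b.toMonoidHom b.injective (X3 F))
      have h10 := haut b g (fun a ha => ?_) y
      · rw [Pi.add_apply, Pi.add_apply, h10]
        rfl
      · rw [Subgroup.mem_centralizer_singleton_iff] at ha ⊢
        rw [← hg]
        calc g * b a * g⁻¹ * (g * b (X3 F) * g⁻¹) = g * b (a * X3 F) * g⁻¹ := by rw [map_mul]; group
          _ = g * b (X3 F * a) * g⁻¹ := by rw [ha]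
          _ = _ := by rw [map_mul]; group
    rw [htop, Subgroup.index_top]
    exact odd_one

end sl

/-- **`PSL₂(q)`, `q` even** (S4829, `p = 2`) -/
theorem row2_psl_two (F : Type u) [Field F] [Fintype F] [CharP F 2] :
    Row2 (Matrix.ProjectiveSpecialLinearGroup (Fin 2) F) := by
  have h2 : (2 : F) = 0 := CharTwo.two_eq_zero
  have hinj : Function.Injective (ClassicalGeometry.PSLTorus.pr F) := by
    intro a b hab
    rcases (ClassicalGeometry.PSLTorus.pr_eq_iff a b).1 hab with h | h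
    · exact h
    · rw [h, neg_eq_neg_one_mul, ClassicalGeometry.PSLTorus.neg_one_eq_one h2, one_mul]
  exact Cfsg.Agent.H776.CY.Row2.congr (MulEquiv.ofBijective (ClassicalGeometry.PSLTorus.pr F)
    ⟨hinj, ClassicalGeometry.PSLTorus.pr_surjective F⟩).symm row2_sl

/-- the family form -/
theorem row2_psl_two_family : RowFor2 (fun X _ => ∃ (F : Type) (_ : Field F) (_ : Fintype F) (_ : CharP F 2),
    4 ≤ Fintype.card F ∧ Nonempty (X ≃* Matrix.ProjectiveSpecialLinearGroup (Fin 2) F)) := by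
  rintro X _ _ _ - ⟨F, _, _, _, -, ⟨e⟩⟩
  exact Cfsg.Agent.H776.CY.Row2.congr e (row2_psl_two F)

end Cfsg.Agent.H907.R2
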