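import Cfsg.Agent.H907.R2.Semi
import Cfsg.Agent.H226.R2.Base
import Cfsg.Agent.H776.CY.Congr
import Cfsg.Agent.H328.Gow.RowsSpO
import Cfsg.Agent.H198.SympGamma
import Cfsg.Agent.S0814
import Cfsg.Agent.S0270
import Cfsg.Agent.H546.FaPSp

/-!
# S4829, `p = 2`: `PSp_{2m}(2^f)`, `m ≥ 3`

`3 ∣ q - 1`: the character induced from the stabiliser of a point, attached to a linear character of order three of `K^*`,
is fixed by all automorphisms. `3 ∤ q - 1`: `f` is odd and `|Out| = f`.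
-/

set_option autoImplicit false
set_option linter.style.haveILetI false

open scoped ComplexConjugate
open Cfsg

namespace Cfsg.Agent.H907.R2

open Cfsg.Agent.OddOrderCharacters.Clifford Cfsg.Agent.Characters MulAction Module Cfsg.Agent.H53.HC
  Cfsg.Agent.H477.HC Cfsg.Agent.H328.Gow Cfsg.Agent.H636.Gow Cfsg.Agent.H770.CY Cfsg.Agent.H226.R2

universe u

section

variable {F : Type u} [Field F] {m : ℕ}

/-- every line is in `Om 1` -/
theorem mem_Om_one {W : Submodule F (Fin m ⊕ Fin m → F)} (hW : finrank F W = 1) : W ∈ (CForm.spF F m).Om 1 := by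
  refine ⟨⟨fun w _ => rfl, fun w hw w' hw' => ?_⟩, hW⟩
  obtain ⟨v, -, h⟩ := finrank_eq_one_iff'.1 hW
  obtain ⟨a, ha⟩ := h ⟨w, hw⟩
  obtain ⟨b, hb⟩ := h ⟨w', hw'⟩
  have ha' : a • (v : Fin m ⊕ Fin m → F) = w := congrArg Subtype.val ha
  have hb' : b • (v : Fin m ⊕ Fin m → F) = w' := congrArg Subtype.val hb
  rw [← ha', ← hb', (CForm.spF F m).B_smul_left, (CForm.spF F m).B_smul_right, (CForm.spF F m).alt v rfl, mul_zero,
    mul_zero]

/-- `v ↦ A σ(v)` -/
noncomputable def semiE (A : GL (Fin m ⊕ Fin m) F) (σ : F ≃+* F) : (Fin m ⊕ Fin m → F) ≃+ (Fin m ⊕ Fin m → F) where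
  toFun v := (A : Matrix (Fin m ⊕ Fin m) (Fin m ⊕ Fin m) F).mulVec fun i => σ (v i)
  invFun v := fun i => σ.symm (((A⁻¹ : GL (Fin m ⊕ Fin m) F) : Matrix (Fin m ⊕ Fin m) (Fin m ⊕ Fin m) F).mulVec v i)
  left_inv v := by
    funext i
    show σ.symm (((A⁻¹ : GL (Fin m ⊕ Fin m) F) : Matrix (Fin m ⊕ Fin m) (Fin m ⊕ Fin m) F).mulVec
      ((A : Matrix (Fin m ⊕ Fin m) (Fin m ⊕ Fin m) F).mulVec fun i => σ (v i)) i) = v i
    rw [Matrix.mulVec_mulVec, ← Units.val_mul, inv_mul_cancel, Units.val_one, Matrix.one_mulVec,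
      RingEquiv.symm_apply_apply]
  right_inv v := by
    have h1 : (fun i => σ (σ.symm ((((A⁻¹ : GL (Fin m ⊕ Fin m) F) : Matrix (Fin m ⊕ Fin m) (Fin m ⊕ Fin m) F).mulVec v) i))) =
        ((A⁻¹ : GL (Fin m ⊕ Fin m) F) : Matrix (Fin m ⊕ Fin m) (Fin m ⊕ Fin m) F).mulVec v := by
      funext i
      rw [RingEquiv.apply_symm_apply]
    show (A : Matrix (Fin m ⊕ Fin m) (Fin m ⊕ Fin m) F).mulVec _ = v
    rw [h1, Matrix.mulVec_mulVec, ← Units.val_mul, mul_inv_cancel, Units.val_one, Matrix.one_mulVec]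
  map_add' u v := by
    have h1 : (fun i => σ ((u + v) i)) = (fun i => σ (u i)) + fun i => σ (v i) := by
      funext i
      rw [Pi.add_apply, map_add, Pi.add_apply]
    rw [h1, Matrix.mulVec_add]

theorem semiE_apply (A : GL (Fin m ⊕ Fin m) F) (σ : F ≃+* F) (v : Fin m ⊕ Fin m → F) :
    semiE A σ v = (A : Matrix (Fin m ⊕ Fin m) (Fin m ⊕ Fin m) F).mulVec fun i => σ (v i) := rfl

theorem semiE_smul (A : GL (Fin m ⊕ Fin m) F) (σ : F ≃+* F) (a : F) (v : Fin m ⊕ Fin m → F) :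
    semiE A σ (a • v) = σ a • semiE A σ v := by
  rw [semiE_apply, semiE_apply, ← Matrix.mulVec_smul]
  congr 1
  funext i
  rw [Pi.smul_apply, smul_eq_mul, map_mul, Pi.smul_apply, smul_eq_mul]

/-- an automorphism of `PSp m F` on the class of `A`, with the matrix -/
theorem aut_apply [Finite F] (hm : 3 ≤ m) (φ : MulAut (PSp m F)) (A : Matrix.symplecticGroup (Fin m) F) :
    ∃ (B : GL (Fin m ⊕ Fin m) F) (σ : F ≃+* F) (C : Matrix.symplecticGroup (Fin m) F),
      φ (QuotientGroup.mk A) = QuotientGroup.mk C ∧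
      (C : Matrix (Fin m ⊕ Fin m) (Fin m ⊕ Fin m) F) = B * (A : Matrix (Fin m ⊕ Fin m) (Fin m ⊕ Fin m) F).map σ *
        ((B⁻¹ : GL (Fin m ⊕ Fin m) F) : Matrix (Fin m ⊕ Fin m) (Fin m ⊕ Fin m) F) := by
  obtain ⟨B, σ, hB, h⟩ := H198.SympGamma.exists_pair (by omega) (Or.inl hm) φ
  obtain ⟨N, hN⟩ : ∃ N : Matrix (Fin m ⊕ Fin m) (Fin m ⊕ Fin m) F, N = (B : Matrix _ _ F) *
    (A : Matrix (Fin m ⊕ Fin m) (Fin m ⊕ Fin m) F).map σ * ((B⁻¹ : GL (Fin m ⊕ Fin m) F) : Matrix _ _ F) := ⟨_, rfl⟩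
  have hN' := fun v => H198.SemiMat.conj_mulVec hN v
  have hsurj : ∀ w : Fin m ⊕ Fin m → F, ∃ v : Fin m ⊕ Fin m → F, w =
      (B : Matrix (Fin m ⊕ Fin m) (Fin m ⊕ Fin m) F).mulVec fun i => σ (v i) := fun w =>
    ⟨(semiE B σ).symm w, ((semiE B σ).apply_symm_apply w).symm⟩
  obtain ⟨c, hc⟩ := hB
  have hNs : N ∈ Matrix.symplecticGroup (Fin m) F := by
    rw [ClassicalGeometry.SympBasic.mem_symplecticGroup_iff]
    intro u v
    obtain ⟨u, rfl⟩ := hsurj u
    obtain ⟨v, rfl⟩ := hsurj v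
    rw [hN', hN', hc, hc, H198.SympGamma.sympForm_map, H198.SympGamma.sympForm_map,
      ClassicalGeometry.SympBasic.mem_symplecticGroup_iff.1 A.2]
  exact ⟨B, σ, ⟨N, hNs⟩, h A ⟨N, hNs⟩ hN, hN⟩

/-- **`3 ∣ q - 1`** -/
theorem row2_psp_three [Fintype F] [CharP F 2] (hm : 3 ≤ m) (h3 : 3 ∣ Nat.card F - 1) : Row2 (PSp m F) := by
  classical
  obtain ⟨n, rfl⟩ : ∃ n, m = 1 + n := ⟨m - 1, by omega⟩
  obtain ⟨s, hs⟩ := card_pow F 2
  have hs0 : s ≠ 0 := by
    rintro rfl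
    rw [pow_zero] at hs
    have : 1 < Nat.card F := Finite.one_lt_card
    omega
  have heven : Even (Nat.card F) := by rw [hs]; exact even_two.pow_of_ne_zero hs0
  obtain ⟨⟨W₁, hW₁⟩, -⟩ := CForm.spF_frame (K := F) (p := 2) 1 n
  have hfi := finite_iso (CForm.spF F (1 + n))
  let _ := Fintype.ofFinite (CForm.spF F (1 + n)).iso
  have hfO : Finite ((CForm.spF F (1 + n)).Om 1) := by
    have : Finite (Submodule F (Fin (1 + n) ⊕ Fin (1 + n) → F)) :=
      Finite.of_injective (fun W : Submodule F (Fin (1 + n) ⊕ Fin (1 + n) → F) =>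
        (W : Set (Fin (1 + n) ⊕ Fin (1 + n) → F))) SetLike.coe_injective
    infer_instance
  let _ := Fintype.ofFinite ((CForm.spF F (1 + n)).Om 1)
  obtain ⟨c, hc, hdual⟩ := exists_one_id (K := F) heven h3
  obtain ⟨d, hd, hcd⟩ := hc.deg
  have hiota : (CForm.spF F (1 + n)).iota 1 = (Matrix.GeneralLinearGroup.map (RingHom.id F)).comp (invT 1) := rfl
  have hOm := odd_Om_one (CForm.spF F (1 + n)) hW₁ (Or.inl ⟨1, one_ne_zero, rfl⟩)
  have hdual' : c ∘ (CForm.spF F (1 + n)).iota 1 ≠ c := by rw [hiota]; exact hdual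
  have hgal' : ∀ τ : ℂ ≃+* ℂ, (fun A => τ (c A)) = c ∨ (fun A => τ (c A)) = c ∘ (CForm.spF F (1 + n)).iota 1 := by
    rw [hiota]
    exact hc.gal
  obtain ⟨χ, hχ, hrat, ⟨e, he, hχ1⟩, -, hχc⟩ := exists_rat (CForm.spF F (1 + n)) one_pos hc.irr hc.cusp hW₁ hgal'
    (Or.inl hdual') hOm hd hcd
  have hχc := hχc hdual'
  have hχ' : IsIrrCharacter _ (χ ∘ (isoSp (1 + n) F).toMonoidHom) :=
    Core.isIrr_comp (isoSp (1 + n) F).toMonoidHom (isoSp (1 + n) F).surjective hχ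
  have hneg : ∀ A : Matrix (Fin (1 + n) ⊕ Fin (1 + n)) (Fin (1 + n) ⊕ Fin (1 + n)) F, A = 1 ∨ A = -1 → A = 1 := by
    rintro A (h | h)
    · exact h
    · rw [h]
      have h2 : (2 : F) = 0 := by exact_mod_cast CharP.cast_eq_zero F 2
      have h3 : (-1 : F) = 1 := by linear_combination -h2
      ext i j
      rw [Matrix.neg_apply, Matrix.one_apply]
      split_ifs
      · exact h3
      · exact neg_zero
  obtain ⟨η, hη, hη'⟩ := exists_quot (Subgroup.center (Matrix.symplecticGroup (Fin (1 + n)) F)) hχ' (fun z hz => by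
    have h1 : z = 1 := Subtype.ext (hneg _ (Cfsg.Agent.ClassicalGeometry.SympInvolutions.center_eq hz))
    rw [h1])
  have htop : stab η = ⊤ := by
    rw [eq_top_iff]
    intro b _ x
    obtain ⟨A, rfl⟩ := QuotientGroup.mk_surjective x
    obtain ⟨B, σ, C, h1, h2⟩ := aut_apply hm b A
    rw [h1, hη', hη']
    show χ (isoSp (1 + n) F C) = χ (isoSp (1 + n) F A)
    rw [hχc, hcf_semi (semiE_smul B σ) (CForm.spF F (1 + n)) (Core.isIrr_isClassFunction hc.irr)
      (fun W hW => mem_Om_one (finrank_mapS_one _ hW.2)) (g := isoSp (1 + n) F A) (g' := isoSp (1 + n) F C) (fun v => ?_)]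
    · rcases twist_or hc.irr hgal' σ with h | h
      · rw [h]
      · rw [h, hcf_iota (CForm.spF F (1 + n)) one_pos hc.irr hc.cusp hW₁]
    · rw [isoSp_apply, isoSp_apply, semiE_apply, semiE_apply]
      exact H198.SemiMat.conj_mulVec h2 v
  refine row2_of_stab hη ?_ ⟨e, he, ?_⟩ ?_ (by rw [htop, Subgroup.index_top]; exact odd_one)
  · rintro rfl
    refine card_Om_ne_one (CForm.spF F (1 + n)) one_pos hW₁ ?_
    have h1 : χ 1 = 1 := by
      have h2 := hη' 1
      rw [Function.comp_apply, map_one] at h2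
      exact h2.symm
    rw [hχc, hcf_one (CForm.spF F (1 + n)) (Core.isIrr_isClassFunction hc.irr), hcd] at h1
    have h2 : Nat.card ((CForm.spF F (1 + n)).Om 1) * d = 1 := by exact_mod_cast h1
    exact Nat.eq_one_of_mul_eq_one_right h2
  · have := hη' 1
    rw [QuotientGroup.mk_one] at this
    rw [this, Function.comp_apply, map_one, hχ1]
  · intro g
    obtain ⟨x, rfl⟩ := QuotientGroup.mk_surjective g
    rw [hη']
    exact hrat _

/-- **`3 ∤ q - 1`** -/
theorem row2_psp_odd [Fintype F] [CharP F 2] (hm : 3 ≤ m) (h3 : ¬ 3 ∣ Nat.card F - 1) : Row2 (PSp m F) := by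
  obtain ⟨f, hp, hf⟩ := FiniteField.card F 2
  have hf1 : 1 ≤ (f : ℕ) := f.pos
  have hodd : Odd (f : ℕ) := by
    rw [← Nat.not_even_iff_odd]
    rintro ⟨k, hk⟩
    apply h3
    rw [Nat.card_eq_fintype_card, hf, hk, ← two_mul, pow_mul]
    have h4 := Nat.sub_dvd_pow_sub_pow (2 ^ 2) 1 k
    rw [one_pow] at h4
    exact h4
  have hs : IsSimpleGroup (PSp m F) := S0270.result m (by omega) (fun h => by omega)
  have hna : ¬ IsMulCommutative (PSp m F) := by
    intro h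
    have hc := H546.FaPSp.center (F := F) (m := m) (by omega)
    have h5 : Subgroup.center (PSp m F) = ⊤ := by
      rw [eq_top_iff]
      intro x _
      rw [Subgroup.mem_center_iff]
      exact fun g => h.is_comm.comm g x
    rw [h5] at hc
    have := hs.toNontrivial
    exact absurd hc top_ne_bot
  have hcard := S0814.result 2 f hf1 hf m (by omega) (fun h => by omega)
  rw [if_neg (fun h => by omega), one_mul] at hcard
  have hg : Nat.gcd 2 (2 ^ (f : ℕ) - 1) = 1 := by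
    have h6 : Odd (2 ^ (f : ℕ) - 1) := by
      have h7 : Even (2 ^ (f : ℕ)) := even_two.pow_of_ne_zero f.pos.ne'
      have h8 : 1 ≤ 2 ^ (f : ℕ) := Nat.one_le_two_pow
      exact Nat.Even.sub_odd h8 h7 odd_one
    exact Nat.coprime_two_left.2 h6
  rw [hg, one_mul] at hcard
  exact row2_of_card hna hodd hcard (psp F m (by omega) (fun h => by omega))

/-- **`PSp_{2m}(q)`, `q` even, `m ≥ 3`** (S4829, `p = 2`) -/
theorem row2_psp (F : Type u) [Field F] [Fintype F] [CharP F 2] (m : ℕ) (hm : 3 ≤ m) : Row2 (PSp m F) := by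
  by_cases h3 : 3 ∣ Nat.card F - 1
  · exact row2_psp_three hm h3
  · exact row2_psp_odd hm h3

end

/-- the family form -/
theorem row2_psp_family : RowFor2 (fun X _ => ∃ (F : Type) (_ : Field F) (_ : Fintype F) (_ : CharP F 2) (m : ℕ),
    3 ≤ m ∧ Nonempty (X ≃* PSp m F)) := by
  rintro X _ _ _ - ⟨F, _, _, _, m, hm, ⟨e⟩⟩
  exact Cfsg.Agent.H776.CY.Row2.congr e (row2_psp F m hm)

end Cfsg.Agent.H907.R2
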