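import Cfsg.Agent.H328.Gow.Rat
import Cfsg.Agent.H328.Gow.CusRat

/-!
# S4829, `p = 2`: the function `hcf F c`, `c` a linear character of `GL_1(K)`, and semilinear maps
-/

set_option autoImplicit false
set_option linter.style.haveILetI false

open scoped ComplexConjugate
open Cfsg

namespace Cfsg.Agent.H907.R2

open Cfsg.Agent.OddOrderCharacters.Clifford Cfsg.Agent.Characters MulAction Module Cfsg.Agent.H53.HC
  Cfsg.Agent.H477.HC Cfsg.Agent.H328.Gow

universe u v w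

section

variable {K : Type u} [Field K] {V : Type v} [AddCommGroup V] [Module K V]

/-- the image of a subspace under a semilinear bijection -/
def mapS (ρ : K ≃+* K) (Φ : V ≃+ V) (hΦ : ∀ (a : K) (v : V), Φ (a • v) = ρ a • Φ v) (W : Submodule K V) :
    Submodule K V where
  carrier := {v | Φ.symm v ∈ W}
  add_mem' {a b} ha hb := by
    show Φ.symm (a + b) ∈ W
    rw [map_add]
    exact W.add_mem ha hb
  zero_mem' := by
    show Φ.symm 0 ∈ W
    rw [map_zero]
    exact W.zero_mem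
  smul_mem' c v hv := by
    show Φ.symm (c • v) ∈ W
    have h1 : Φ.symm (c • v) = ρ.symm c • Φ.symm v := by
      rw [AddEquiv.symm_apply_eq, hΦ, RingEquiv.apply_symm_apply, AddEquiv.apply_symm_apply]
    rw [h1]
    exact W.smul_mem _ hv

variable {ρ : K ≃+* K} {Φ : V ≃+ V} (hΦ : ∀ (a : K) (v : V), Φ (a • v) = ρ a • Φ v)

theorem map_mem_mapS {W : Submodule K V} {v : V} : Φ v ∈ mapS ρ Φ hΦ W ↔ v ∈ W := by
  show Φ.symm (Φ v) ∈ W ↔ _
  rw [AddEquiv.symm_apply_apply]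

theorem mapS_injective : Function.Injective (mapS ρ Φ hΦ) := by
  intro W W' h
  ext v
  rw [← map_mem_mapS hΦ, h, map_mem_mapS]

theorem finrank_mapS_one {W : Submodule K V} (hW : finrank K W = 1) : finrank K (mapS ρ Φ hΦ W) = 1 := by
  rw [finrank_eq_one_iff'] at hW ⊢
  obtain ⟨w, hw, h⟩ := hW
  refine ⟨⟨Φ w, (map_mem_mapS hΦ).2 w.2⟩, fun h0 => hw ?_, ?_⟩
  · have h1 : Φ (w : V) = 0 := congrArg Subtype.val h0
    exact Subtype.ext ((map_eq_zero_iff Φ Φ.injective).1 h1)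
  · rintro ⟨v, hv⟩
    obtain ⟨v, rfl⟩ := Φ.surjective v
    obtain ⟨c, hc⟩ := h ⟨v, (map_mem_mapS hΦ).1 hv⟩
    refine ⟨ρ c, Subtype.ext ?_⟩
    have h1 : c • (w : V) = v := congrArg Subtype.val hc
    show ρ c • Φ w = Φ v
    rw [← hΦ, h1]

/-- the value of the local term at a line -/
theorem flagTerm_line {G : Type w} [Group G] (r : G →* (V ≃ₗ[K] V)) {c : GL (Fin 1) K → ℂ} (hc : IsClassFunction _ c) {W : Submodule K V}
    (hW : finrank K W = 1) {w : V} (hw : w ∈ W) (hw0 : w ≠ 0) {g : G} {a : K} (hg : r g w = a • w) :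
    ∃ A : GL (Fin 1) K, (A : Matrix (Fin 1) (Fin 1) K) 0 0 = a ∧ flagTerm r c g W = c A := by
  have hWspan : ∀ v ∈ W, ∃ b : K, b • w = v := by
    intro v hv
    obtain ⟨b, hb⟩ := (finrank_eq_one_iff_of_nonzero' (⟨w, hw⟩ : W) (fun h => hw0 (congrArg Subtype.val h))).1 hW ⟨v, hv⟩
    exact ⟨b, congrArg Subtype.val hb⟩
  have ha : a ≠ 0 := by
    rintro rfl
    rw [zero_smul] at hg
    exact hw0 ((map_eq_zero_iff (r g) (r g).injective).1 hg)
  have hmap : W.map (r g : V →ₗ[K] V) = W := by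
    ext v
    constructor
    · rintro ⟨u, hu, rfl⟩
      obtain ⟨b, rfl⟩ := hWspan u hu
      show r g (b • w) ∈ W
      rw [map_smul, hg]
      exact W.smul_mem _ (W.smul_mem _ hw)
    · intro hv
      obtain ⟨b, rfl⟩ := hWspan v hv
      refine ⟨(b * a⁻¹) • w, W.smul_mem _ hw, ?_⟩
      show r g ((b * a⁻¹) • w) = b • w
      rw [map_smul, hg, smul_smul, mul_assoc, inv_mul_cancel₀ ha, mul_one]
  let b : Basis (Fin 1) K W := basisUnique (Fin 1) hW
  refine ⟨glE b (res (r g) W hmap), ?_, ?_⟩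
  · rw [coe_glE, LinearMap.toMatrix_apply]
    have h1 : (res (r g) W hmap : W →ₗ[K] W) (b 0) = a • b 0 := by
      apply Subtype.ext
      show (res (r g) W hmap (b 0) : V) = a • (b 0 : V)
      rw [coe_res]
      obtain ⟨t, ht⟩ := hWspan (b 0) (b 0).2
      rw [← ht, map_smul, hg, smul_comm]
    rw [h1, map_smul, Basis.repr_self, Finsupp.smul_apply, Finsupp.single_eq_same, smul_eq_mul, mul_one]
  · rw [flagTerm_of r c hmap, cl_eq hc b]

theorem gl_one_ext {A B : GL (Fin 1) K} (h : (A : Matrix (Fin 1) (Fin 1) K) 0 0 = (B : Matrix (Fin 1) (Fin 1) K) 0 0) :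
    A = B := by
  apply Units.ext
  ext i j
  have hi : i = 0 := Subsingleton.elim _ _
  have hj : j = 0 := Subsingleton.elim _ _
  rw [hi, hj]
  exact h

/-- the local terms -/
theorem flagTerm_semi {G : Type w} [Group G] (r : G →* (V ≃ₗ[K] V)) {c : GL (Fin 1) K → ℂ} (hc : IsClassFunction _ c)
    {W : Submodule K V} (hW : finrank K W = 1) {g g' : G} (hg : ∀ v, r g' (Φ v) = Φ (r g v)) :
    flagTerm r c g' (mapS ρ Φ hΦ W) = flagTerm r (c ∘ Matrix.GeneralLinearGroup.map (ρ : K →+* K)) g W := by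
  have hc' : IsClassFunction _ (c ∘ Matrix.GeneralLinearGroup.map (n := Fin 1) (ρ : K →+* K)) := by
    intro A x
    show c (Matrix.GeneralLinearGroup.map (ρ : K →+* K) (x * A * x⁻¹)) = _
    rw [map_mul, map_mul, map_inv]
    exact hc _ _
  obtain ⟨⟨w, hw⟩, hw0', hW'⟩ := finrank_eq_one_iff'.1 hW
  have hw0 : w ≠ 0 := fun h => hw0' (Subtype.ext h)
  by_cases h : r g w ∈ W
  · obtain ⟨a, ha⟩ := hW' ⟨_, h⟩
    have ha' : r g w = a • w := (congrArg Subtype.val ha).symm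
    obtain ⟨A, hA, h1⟩ := flagTerm_line r hc' hW hw hw0 ha'
    obtain ⟨B, hB, h2⟩ := flagTerm_line r hc (finrank_mapS_one hΦ hW) ((map_mem_mapS hΦ).2 hw)
      (fun h => hw0 ((map_eq_zero_iff Φ Φ.injective).1 h)) (g := g') (a := ρ a) (by rw [hg, ha', hΦ])
    rw [h1, h2]
    show c B = c (Matrix.GeneralLinearGroup.map (ρ : K →+* K) A)
    congr 1
    apply gl_one_ext
    rw [hB, ← hA]
    rfl
  · have h1 : ¬ W.map (r g : V →ₗ[K] V) = W := by
      intro h1
      apply h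
      rw [← h1]
      exact ⟨w, hw, rfl⟩
    have h2 : ¬ (mapS ρ Φ hΦ W).map (r g' : V →ₗ[K] V) = mapS ρ Φ hΦ W := by
      intro h2
      apply h
      have h3 : Φ w ∈ mapS ρ Φ hΦ W := (map_mem_mapS hΦ).2 hw
      have h4 : r g' (Φ w) ∈ (mapS ρ Φ hΦ W).map (r g' : V →ₗ[K] V) := ⟨_, h3, rfl⟩
      rw [h2, hg, map_mem_mapS] at h4
      exact h4
    unfold flagTerm
    rw [dif_neg h1, dif_neg h2]

/-- **`hcf` and semisimilitudes**, `k = 1` -/
theorem hcf_semi (F : CForm K V) [Fintype (F.Om 1)] {c : GL (Fin 1) K → ℂ} (hc : IsClassFunction _ c)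
    (hOm : ∀ W ∈ F.Om 1, mapS ρ Φ hΦ W ∈ F.Om 1) {g g' : F.iso}
    (hg : ∀ v, (g' : V ≃ₗ[K] V) (Φ v) = Φ ((g : V ≃ₗ[K] V) v)) :
    hcf F c g' = hcf F (c ∘ Matrix.GeneralLinearGroup.map (ρ : K →+* K)) g := by
  rw [hcf_apply, hcf_apply]
  let e : F.Om 1 → F.Om 1 := fun W => ⟨mapS ρ Φ hΦ W.1, hOm W.1 W.2⟩
  have he : Function.Injective e := fun W W' h => Subtype.ext (mapS_injective hΦ (congrArg Subtype.val h))
  refine (Fintype.sum_equiv (Equiv.ofBijective e (Finite.injective_iff_bijective.1 he)) _ _ fun W => ?_).symm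
  exact (flagTerm_semi hΦ F.iso.subtype hc W.2.2 hg).symm

end

/-- automorphisms of a finite cyclic group -/
theorem exists_coprime_pow {C : Type*} [Group C] [Finite C] (hC : IsCyclic C) (f : C →* C) (hf : Function.Injective f) :
    ∃ m : ℕ, m.Coprime (Nat.card C) ∧ ∀ x, f x = x ^ m := by
  obtain ⟨g, hg⟩ := hC.exists_generator
  obtain ⟨m, hm⟩ := mem_powers_iff_mem_zpowers.2 (hg (f g))
  have hm' : g ^ m = f g := hm
  refine ⟨m, ?_, fun x => ?_⟩
  · have h1 : orderOf (f g) = orderOf g := orderOf_injective f hf g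
    rw [← hm', orderOf_pow] at h1
    have h2 : orderOf g = Nat.card C := orderOf_eq_card_of_forall_mem_zpowers hg
    rw [h2] at h1
    have h3 : (Nat.card C).gcd m = 1 := by
      have h4 := Nat.div_mul_cancel (Nat.gcd_dvd_left (Nat.card C) m)
      rw [h1] at h4
      exact Nat.eq_of_mul_eq_mul_left Nat.card_pos (by rw [h4, mul_one])
    rw [Nat.coprime_comm]
    exact h3
  · obtain ⟨j, rfl⟩ := mem_powers_iff_mem_zpowers.2 (hg x)
    show f (g ^ j) = (g ^ j) ^ m
    rw [map_pow, ← hm', ← pow_mul, ← pow_mul, mul_comm]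

section

variable {K : Type u} [Field K] [Finite K]

omit [Finite K] in
theorem isCyclic_gl_one [Finite K] : IsCyclic (GL (Fin 1) K) := by
  refine isCyclic_of_injective (Matrix.GeneralLinearGroup.det (n := Fin 1) (R := K)) ?_
  intro A B h
  apply gl_one_ext
  have h1 := congrArg Units.val h
  simpa using h1

/-- the twists of `c` by field automorphisms -/
theorem twist_or {c : GL (Fin 1) K → ℂ} {ι : GL (Fin 1) K → GL (Fin 1) K} (hc : IsIrrCharacter _ c)
    (hgal : ∀ τ : ℂ ≃+* ℂ, (fun A => τ (c A)) = c ∨ (fun A => τ (c A)) = c ∘ ι) (ρ : K ≃+* K) :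
    c ∘ Matrix.GeneralLinearGroup.map (ρ : K →+* K) = c ∨ c ∘ Matrix.GeneralLinearGroup.map (ρ : K →+* K) = c ∘ ι := by
  obtain ⟨m, hm, h⟩ := exists_coprime_pow (isCyclic_gl_one (K := K)) (Matrix.GeneralLinearGroup.map (ρ : K →+* K)) (by
    intro A B hAB
    apply gl_one_ext
    have h1 := congrArg (fun A : GL (Fin 1) K => (A : Matrix (Fin 1) (Fin 1) K) 0 0) hAB
    exact ρ.injective h1)
  obtain ⟨τ, hτ⟩ := GaloisBasic.exists_ringEquiv_of_coprime hm
  have h1 : c ∘ Matrix.GeneralLinearGroup.map (ρ : K →+* K) = fun A => τ (c A) := by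
    funext A
    rw [Function.comp_apply, h, hτ c (Core.isIrr_isCharacter hc)]
  rw [h1]
  exact hgal τ

end

end Cfsg.Agent.H907.R2
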